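import Cfsg.Agent.S2522

/-!
Thompson class squares: general reductions and products of two conjugates in `GL_n`.
-/

set_option autoImplicit false
set_option linter.style.haveILetI false
set_option linter.unusedSectionVars false

namespace H21.ClassSquare

section group

variable {G : Type*} [Group G]

/-- `g` is a product of two conjugates of `c`. -/
def Two (c g : G) : Prop := ∃ x y : G, g = x * c * x⁻¹ * (y * c * y⁻¹)

theorem two_of_isConj {c u v : G} (hu : IsConj c u) (hv : IsConj c v) : Two c (u * v) := by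
  obtain ⟨x, rfl⟩ := isConj_iff.1 hu
  obtain ⟨y, rfl⟩ := isConj_iff.1 hv
  exact ⟨x, y, rfl⟩

theorem Two.conj {c g : G} (h : Two c g) (a : G) : Two c (a * g * a⁻¹) := by
  obtain ⟨x, y, rfl⟩ := h
  exact ⟨a * x, a * y, by group⟩

theorem Two.of_conj {c g : G} (a : G) (h : Two c (a * g * a⁻¹)) : Two c g := by
  simpa [mul_assoc] using h.conj a⁻¹

theorem Two.of_isConj {c c' g : G} (h : Two c g) (hc : IsConj c' c) : Two c' g := by
  obtain ⟨x, y, rfl⟩ := h
  exact two_of_isConj (hc.trans (isConj_iff.2 ⟨x, rfl⟩)) (hc.trans (isConj_iff.2 ⟨y, rfl⟩))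

/-- The class square of a quotient. -/
theorem quotient_square {H : Type*} [Group H] {N : Subgroup H} [N.Normal] (e : G ≃* H ⧸ N) {c : H}
    (hc : IsConj c c⁻¹) (h : ∀ g, g ∉ N → Two c g) :
    ∃ c : G, ∀ g : G, ∃ x y : G, g = (x * c * x⁻¹) * (y * c * y⁻¹) := by
  refine ⟨e.symm (c : H ⧸ N), fun g => ?_⟩
  obtain ⟨a, ha⟩ := QuotientGroup.mk_surjective (e g)
  have hg : g = e.symm (a : H ⧸ N) := by rw [ha, e.symm_apply_apply]
  have h1 : ∃ b : H, (b : H ⧸ N) = a ∧ Two c b := by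
    by_cases haN : a ∈ N
    · exact ⟨1, by rw [(QuotientGroup.eq_one_iff a).2 haN, QuotientGroup.mk_one],
        by simpa using two_of_isConj (IsConj.refl c) hc⟩
    · exact ⟨a, rfl, h a haN⟩
  obtain ⟨b, hb, x, y, rfl⟩ := h1
  refine ⟨e.symm (x : H ⧸ N), e.symm (y : H ⧸ N), ?_⟩
  rw [hg, ← hb]
  simp only [QuotientGroup.mk_mul, QuotientGroup.mk_inv, map_mul, map_inv]

/-- Absorption: a group normalised by `x`, without fixed points. -/
theorem absorb [Finite G] {x : G} (U : Subgroup G) (hn : ∀ u ∈ U, x * u * x⁻¹ ∈ U)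
    (hf : ∀ u ∈ U, x * u = u * x → u = 1) {u : G} (hu : u ∈ U) :
    IsConj x (u * x) ∧ IsConj x (x * u) := by
  let f : U → U := fun y => ⟨y.1 * (x * y.1⁻¹ * x⁻¹), mul_mem y.2 (hn _ (inv_mem y.2))⟩
  have hinj : Function.Injective f := by
    intro y z hyz
    have h : y.1 * (x * y.1⁻¹ * x⁻¹) = z.1 * (x * z.1⁻¹ * x⁻¹) := congrArg Subtype.val hyz
    have h1 : z.1⁻¹ * y.1 = 1 := by
      apply hf _ (mul_mem (inv_mem z.2) y.2)
      calc x * (z.1⁻¹ * y.1) = z.1⁻¹ * (z.1 * (x * z.1⁻¹ * x⁻¹)) * x * y.1 := by group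
        _ = z.1⁻¹ * (y.1 * (x * y.1⁻¹ * x⁻¹)) * x * y.1 := by rw [h]
        _ = _ := by group
    exact Subtype.ext (inv_mul_eq_one.1 h1).symm
  have hs := Finite.surjective_of_injective hinj
  have key : ∀ w ∈ U, IsConj x (w * x) := by
    intro w hw
    obtain ⟨y, hy⟩ := hs ⟨w, hw⟩
    have h : y.1 * (x * y.1⁻¹ * x⁻¹) = w := congrArg Subtype.val hy
    exact isConj_iff.2 ⟨y.1, by rw [← h]; group⟩
  refine ⟨key u hu, ?_⟩
  have := key _ (hn u hu)
  rwa [show x * u * x⁻¹ * x = x * u by group] at this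

end group

section gl

open Matrix H41 H41.Reg
open scoped MatrixGroups

variable {K : Type*} [Field K] {n : ℕ}

theorem det_jordan : (jordan K n).det = 1 := by
  rw [Matrix.det_of_isUpperTriangular (fun i j h => (jordan_reg (K := K) (n := n)).1.1 i j h),
    Finset.prod_eq_one fun i _ => (jordan_reg (K := K) (n := n)).1.2 i]

/-- The unipotent Jordan block as an invertible matrix. -/
noncomputable def jordanGL (K : Type*) [Field K] (n : ℕ) : GL (Fin n) K :=
  GeneralLinearGroup.mk'' (jordan K n) (by rw [det_jordan]; exact isUnit_one)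

@[simp] theorem coe_jordanGL : (jordanGL K n : Matrix (Fin n) (Fin n) K) = jordan K n := rfl

theorem isConj_of_mul {A B : GL (Fin n) K} {P : Matrix (Fin n) (Fin n) K} (hP : IsUnit P.det)
    (h : (B : Matrix (Fin n) (Fin n) K) * P = P * (A : Matrix (Fin n) (Fin n) K)) : IsConj A B := by
  refine isConj_iff.2 ⟨GeneralLinearGroup.mk'' P hP, ?_⟩
  rw [mul_inv_eq_iff_eq_mul]
  exact Units.ext h.symm

/-- Similar two by two matrices: determinant one, same trace, neither scalar. -/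
theorem isConj_two {A B : GL (Fin 2) K} (hA : ∀ c : K, (A : Matrix (Fin 2) (Fin 2) K) ≠ c • 1)
    (hB : ∀ c : K, (B : Matrix (Fin 2) (Fin 2) K) ≠ c • 1)
    (hd : (A : Matrix (Fin 2) (Fin 2) K).det = (B : Matrix (Fin 2) (Fin 2) K).det)
    (ht : (A : Matrix (Fin 2) (Fin 2) K).trace = (B : Matrix (Fin 2) (Fin 2) K).trace) : IsConj A B := by
  obtain ⟨P, hP, hcP⟩ := exists_conj_first_column (n := 0) hA 0
  obtain ⟨Q, hQ, hcQ⟩ := exists_conj_first_column (n := 0) hB 0
  have key : P⁻¹ * (A : Matrix (Fin 2) (Fin 2) K) * P = Q⁻¹ * (B : Matrix (Fin 2) (Fin 2) K) * Q := by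
    have t1 := ht
    have d1 := hd
    rw [← Matrix.trace_conj' ((Matrix.isUnit_iff_isUnit_det P).2 hP) (A : Matrix (Fin 2) (Fin 2) K),
      ← Matrix.trace_conj' ((Matrix.isUnit_iff_isUnit_det Q).2 hQ) (B : Matrix (Fin 2) (Fin 2) K)] at t1
    rw [← Matrix.det_conj' ((Matrix.isUnit_iff_isUnit_det P).2 hP) (A : Matrix (Fin 2) (Fin 2) K),
      ← Matrix.det_conj' ((Matrix.isUnit_iff_isUnit_det Q).2 hQ) (B : Matrix (Fin 2) (Fin 2) K)] at d1
    generalize P⁻¹ * (A : Matrix (Fin 2) (Fin 2) K) * P = M at *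
    generalize Q⁻¹ * (B : Matrix (Fin 2) (Fin 2) K) * Q = N at *
    have m0 := hcP 0; have m1 := hcP 1; have n0 := hcQ 0; have n1 := hcQ 1
    simp at m0 m1 n0 n1
    simp [Matrix.det_fin_two, m0, m1, n0, n1] at d1
    simp [Matrix.trace_fin_two, m0, n0] at t1
    ext i j
    fin_cases i <;> fin_cases j <;> simp [m0, m1, n0, n1, d1, t1]
  refine isConj_of_mul (P := Q * P⁻¹) (by rw [Matrix.det_mul]; exact hQ.mul (Matrix.isUnit_nonsing_inv_det _ hP)) ?_
  calc (B : Matrix (Fin 2) (Fin 2) K) * (Q * P⁻¹)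
      = Q * (Q⁻¹ * (B : Matrix (Fin 2) (Fin 2) K) * Q) * P⁻¹ := by
        rw [← Matrix.mul_assoc Q, ← Matrix.mul_assoc Q, Matrix.mul_nonsing_inv _ hQ, Matrix.one_mul, Matrix.mul_assoc]
    _ = Q * P⁻¹ * (A : Matrix (Fin 2) (Fin 2) K) := by
        rw [← key]; simp only [Matrix.mul_assoc, Matrix.mul_nonsing_inv _ hP, Matrix.mul_one]

theorem isConj_jordan_upper (hn : 0 < n) {U : GL (Fin n) K} (h : IsRegUpper (U : Matrix (Fin n) (Fin n) K)) :
    IsConj (jordanGL K n) U := by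
  obtain ⟨P, hP, e⟩ := conj_jordan_upper hn h
  exact isConj_of_mul hP e

theorem isConj_jordan_lower (hn : 0 < n) {U : GL (Fin n) K} (h : IsRegLower (U : Matrix (Fin n) (Fin n) K)) :
    IsConj (jordanGL K n) U := by
  obtain ⟨P, hP, e⟩ := conj_jordan_lower hn h
  exact isConj_of_mul hP e

theorem regUpper_two {a : K} (ha : a ≠ 0) : IsRegUpper (!![1, a; 0, 1] : Matrix (Fin 2) (Fin 2) K) := by
  refine ⟨⟨fun i j h => ?_, fun i => ?_⟩, fun i j h => ?_⟩
  · fin_cases i <;> fin_cases j <;> first | exact absurd h (by decide) | simp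
  · fin_cases i <;> simp
  · fin_cases i <;> fin_cases j <;> simp_all

theorem regLower_two {a : K} (ha : a ≠ 0) : IsRegLower (!![1, 0; a, 1] : Matrix (Fin 2) (Fin 2) K) := by
  refine ⟨⟨fun i j h => ?_, fun i => ?_⟩, fun i j h => ?_⟩
  · fin_cases i <;> fin_cases j <;> first | exact absurd h (by decide) | simp
  · fin_cases i <;> simp
  · fin_cases i <;> fin_cases j <;> simp_all

theorem pair_two [Fintype K] (hK : 4 ≤ Fintype.card K) (g : GL (Fin 2) K)
    (hdet : (g : Matrix (Fin 2) (Fin 2) K).det = 1) (hns : ∀ c : K, (g : Matrix (Fin 2) (Fin 2) K) ≠ c • 1) :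
    Two (jordanGL K 2) g := by
  classical
  set T := (g : Matrix (Fin 2) (Fin 2) K).trace with hT
  let up (a : K) : GL (Fin 2) K := GeneralLinearGroup.mk'' !![1, a; 0, 1] (by simp [Matrix.det_fin_two])
  let lo (a : K) : GL (Fin 2) K := GeneralLinearGroup.mk'' !![1, 0; a, 1] (by simp [Matrix.det_fin_two])
  have cup : ∀ a, a ≠ 0 → IsConj (jordanGL K 2) (up a) := fun a ha =>
    isConj_jordan_upper two_pos (regUpper_two ha)
  have clo : ∀ a, a ≠ 0 → IsConj (jordanGL K 2) (lo a) := fun a ha =>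
    isConj_jordan_lower two_pos (regLower_two ha)
  obtain ⟨u, v, hu, hv, hns', ht', hd'⟩ : ∃ u v : GL (Fin 2) K, IsConj (jordanGL K 2) u ∧
      IsConj (jordanGL K 2) v ∧ (∀ c : K, ((u * v : GL (Fin 2) K) : Matrix (Fin 2) (Fin 2) K) ≠ c • 1) ∧
      ((u * v : GL (Fin 2) K) : Matrix (Fin 2) (Fin 2) K).trace = T ∧
      ((u * v : GL (Fin 2) K) : Matrix (Fin 2) (Fin 2) K).det = 1 := by
    by_cases h2 : T = 2
    · obtain ⟨a, ha, ha1⟩ : ∃ a : K, a ≠ 0 ∧ a ≠ 1 := by
        by_contra h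
        push Not at h
        have : (Finset.univ : Finset K) ⊆ {0, 1} := fun x _ => by
          by_cases hx : x = 0
          · simp [hx]
          · simp [h x hx]
        have := (Finset.card_le_card this).trans Finset.card_le_two
        rw [Finset.card_univ] at this
        omega
      refine ⟨up a, up (1 - a), cup a ha, cup _ (sub_ne_zero.2 (Ne.symm ha1)), fun c hc => ?_, ?_, ?_⟩
      · have := congrFun (congrFun hc 0) 1
        simp [up, Matrix.mul_apply] at this
      · simp [up, Matrix.trace_fin_two, Matrix.mul_apply, h2, one_add_one_eq_two]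
      · simp [up, Matrix.det_fin_two, Matrix.mul_apply]
    · refine ⟨up 1, lo (T - 2), cup 1 one_ne_zero, clo _ (sub_ne_zero.2 h2), fun c hc => ?_, ?_, ?_⟩
      · have := congrFun (congrFun hc 0) 1
        simp [up, lo, Matrix.mul_apply] at this
      · simp [up, lo, Matrix.trace_fin_two, Matrix.mul_apply]; ring
      · simp [up, lo, Matrix.det_fin_two, Matrix.mul_apply]
  obtain ⟨a, rfl⟩ := isConj_iff.1 (isConj_two hns' hns (hd'.trans hdet.symm) ht')
  exact (two_of_isConj hu hv).conj a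

/-- Determinant one, not a scalar (or size one): a product of two regular unipotents. -/
theorem pair_jordan [Fintype K] (hK : 4 ≤ Fintype.card K) (g : GL (Fin (n + 1)) K)
    (hdet : (g : Matrix (Fin (n + 1)) (Fin (n + 1)) K).det = 1)
    (hns : n = 0 ∨ ∀ c : K, (g : Matrix (Fin (n + 1)) (Fin (n + 1)) K) ≠ c • 1) :
    Two (jordanGL K (n + 1)) g := by
  match n with
  | 0 =>
    have hJ : jordanGL K 1 = 1 := Units.ext (by
      ext i j
      rw [Subsingleton.elim (α := Fin 1) i 0, Subsingleton.elim (α := Fin 1) j 0]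
      simp [jordan])
    refine ⟨1, 1, Units.ext ?_⟩
    rw [hJ]
    ext i j
    rw [Subsingleton.elim (α := Fin 1) i 0, Subsingleton.elim (α := Fin 1) j 0]
    simpa [Matrix.det_fin_one] using hdet
  | 1 => exact pair_two hK g hdet (hns.resolve_left one_ne_zero)
  | k + 2 =>
    refine Cfsg.Agent.S2522.result (by simpa using hK) (k + 3) (by omega) (jordanGL K (k + 3)) g
      (fun i j => rfl) ?_ hdet
    rintro ⟨c, hc⟩
    exact hns.resolve_left (by omega) c hc

/-- Bordering by a corner, as a homomorphism. -/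
noncomputable def cornerHom : Kˣ × GL (Fin n) K →* GL (Fin (n + 1)) K where
  toFun p := GeneralLinearGroup.mk'' (border (p.1 : K) 0 0 (p.2 : Matrix (Fin n) (Fin n) K))
    (by rw [det_border_zero_col]; exact p.1.isUnit.mul ((Matrix.isUnit_iff_isUnit_det _).1 p.2.isUnit))
  map_one' := Units.ext (by simp [border_one])
  map_mul' p q := Units.ext (by simp [border_mul])

@[simp] theorem coe_cornerHom (c : Kˣ) (M : GL (Fin n) K) :
    (cornerHom (c, M) : Matrix (Fin (n + 1)) (Fin (n + 1)) K) = border (c : K) 0 0 (M : Matrix _ _ K) := rfl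

/-- Scalars. -/
noncomputable def scal (l : Kˣ) : GL (Fin n) K :=
  Units.map (Matrix.scalar (Fin n)).toMonoidHom l

@[simp] theorem coe_scal (l : Kˣ) : ((scal l : GL (Fin n) K) : Matrix (Fin n) (Fin n) K) = (l : K) • 1 := by
  simp [scal, Matrix.smul_one_eq_diagonal]

theorem scal_comm (l : Kˣ) (g : GL (Fin n) K) : Commute (scal l) g := Units.ext (by simp)

theorem isConj_scal_mul (l : Kˣ) {g h : GL (Fin n) K} (hgh : IsConj g h) : IsConj (scal l * g) (scal l * h) := by
  obtain ⟨a, rfl⟩ := isConj_iff.1 hgh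
  exact isConj_iff.2 ⟨a, by rw [← mul_assoc, ← (scal_comm l a).eq]; group⟩

theorem det_scalJordan_sub (c l : K) :
    (l • jordan K n - c • 1).det = (l - c) ^ n := by
  rw [Matrix.det_of_isUpperTriangular (fun i j h => by
    have h' : j.val < i.val := h
    simp [jordan, Fin.ext_iff, show ¬ i.val = j.val by omega, show ¬ j.val = i.val + 1 by omega])]
  rw [Finset.prod_congr rfl (g := fun _ => l - c) fun i _ => by simp [jordan]]
  simp

/-- The class used inside `GL`: a corner next to a scaled Jordan block. -/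
noncomputable def cls (c l : Kˣ) (n : ℕ) : GL (Fin (n + 1)) K := cornerHom (c, scal l * jordanGL K n)

theorem det_cls (c l : Kˣ) : ((cls c l n : GL (Fin (n + 1)) K) : Matrix (Fin (n + 1)) (Fin (n + 1)) K).det = c * (l : K) ^ n := by
  simp [cls, det_border_zero_col, Matrix.det_smul, det_jordan]

theorem det_cls_sub (c l : Kˣ) (μ : K) :
    (((cls c l n : GL (Fin (n + 1)) K) : Matrix (Fin (n + 1)) (Fin (n + 1)) K) - μ • 1).det =
      ((c : K) - μ) * ((l : K) - μ) ^ n := by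
  rw [show ((cls c l n : GL (Fin (n + 1)) K) : Matrix (Fin (n + 1)) (Fin (n + 1)) K) - μ • 1 =
      border ((c : K) - μ) 0 0 ((l : K) • jordan K n - μ • 1) from ?_, det_border_zero_col, det_scalJordan_sub]
  ext i j
  cases i using Fin.cases <;> cases j using Fin.cases <;>
    simp [cls, Matrix.one_apply, (Fin.succ_ne_zero _).symm]

theorem isUnit_sub_conj {c : K} {U X : GL (Fin n) K} (hu : IsUnit ((U : Matrix (Fin n) (Fin n) K) - c • 1).det)
    (hX : IsConj U X) : IsUnit ((X : Matrix (Fin n) (Fin n) K) - c • 1).det := by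
  obtain ⟨a, rfl⟩ := isConj_iff.1 hX
  have h : ((a * U * a⁻¹ : GL (Fin n) K) : Matrix (Fin n) (Fin n) K) - c • 1 =
      (a : Matrix (Fin n) (Fin n) K) * ((U : Matrix (Fin n) (Fin n) K) - c • 1) *
        ((a⁻¹ : GL (Fin n) K) : Matrix (Fin n) (Fin n) K) := by
    simp [Matrix.mul_sub, Matrix.sub_mul, Matrix.smul_mul, ← Matrix.coe_units_inv]
  rw [h, Matrix.det_mul, Matrix.det_mul]
  exact ((((Matrix.isUnit_iff_isUnit_det _).1 a.isUnit)).mul hu).mul
    ((Matrix.isUnit_iff_isUnit_det _).1 (a⁻¹).isUnit)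

theorem isConj_cornerHom (c : Kˣ) {U X : GL (Fin n) K} (hX : IsConj U X) :
    IsConj (cornerHom (c, U)) (cornerHom (c, X)) := by
  obtain ⟨a, rfl⟩ := isConj_iff.1 hX
  exact isConj_iff.2 ⟨cornerHom (1, a), by rw [← map_inv, ← map_mul, ← map_mul]; simp⟩

/-- A column under the corner is absorbed. -/
theorem isConj_corner_col {c : Kˣ} {U X : GL (Fin n) K}
    (hu : IsUnit ((U : Matrix (Fin n) (Fin n) K) - (c : K) • 1).det) (hX : IsConj U X)
    {M : GL (Fin (n + 1)) K} (w : Fin n → K)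
    (hM : (M : Matrix (Fin (n + 1)) (Fin (n + 1)) K) = border (c : K) 0 w (X : Matrix _ _ K)) :
    IsConj (cornerHom (c, U)) M := by
  refine (isConj_cornerHom c hX).trans ?_
  have hu := isUnit_sub_conj hu hX
  set N := (X : Matrix (Fin n) (Fin n) K) - (c : K) • 1 with hN
  set z := -(N⁻¹ *ᵥ w) with hz
  have hNz : N *ᵥ z = -w := by rw [hz, Matrix.mulVec_neg, Matrix.mulVec_mulVec, Matrix.mul_nonsing_inv _ hu, Matrix.one_mulVec]
  have hXz : (X : Matrix (Fin n) (Fin n) K) *ᵥ z + w = (c : K) • z := by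
    have : (X : Matrix (Fin n) (Fin n) K) *ᵥ z = (c : K) • z + N *ᵥ z := by
      rw [hN, Matrix.sub_mulVec, Matrix.smul_mulVec, Matrix.one_mulVec]; abel
    rw [this, hNz]; abel
  refine isConj_of_mul (P := border 1 0 z 1) (by rw [det_border_zero_row]; simp) ?_
  rw [hM, coe_cornerHom, border_mul, border_mul]
  congr 1
  · simp
  · simp
  · simpa [add_comm] using hXz
  · simp

/-- A row beside the corner is absorbed. -/
theorem isConj_corner_row {c : Kˣ} {U X : GL (Fin n) K}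
    (hu : IsUnit ((U : Matrix (Fin n) (Fin n) K) - (c : K) • 1).det) (hX : IsConj U X)
    {M : GL (Fin (n + 1)) K} (w : Fin n → K)
    (hM : (M : Matrix (Fin (n + 1)) (Fin (n + 1)) K) = border (c : K) w 0 (X : Matrix _ _ K)) :
    IsConj (cornerHom (c, U)) M := by
  refine (isConj_cornerHom c hX).trans ?_
  have hu := isUnit_sub_conj hu hX
  set N := (X : Matrix (Fin n) (Fin n) K) - (c : K) • 1 with hN
  set z := w ᵥ* N⁻¹ with hz
  have hNz : z ᵥ* N = w := by rw [hz, Matrix.vecMul_vecMul, Matrix.nonsing_inv_mul _ hu, Matrix.vecMul_one]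
  have hXz : z ᵥ* (X : Matrix (Fin n) (Fin n) K) = (c : K) • z + w := by
    rw [← hNz, hN, Matrix.vecMul_sub, Matrix.vecMul_smul, Matrix.vecMul_one]; abel
  refine isConj_of_mul (P := border 1 z 0 1) (by rw [det_border_zero_col]; simp) ?_
  rw [hM, coe_cornerHom, border_mul, border_mul]
  congr 1
  · simp
  · simp [hXz]
  · simp
  · simp

/-- The bordering step for products of two classes. -/
theorem pair_step {c d : Kˣ} {U V : GL (Fin (n + 1)) K}
    (hu : IsUnit ((U : Matrix (Fin (n + 1)) (Fin (n + 1)) K) - (c : K) • 1).det)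
    (hv : IsUnit ((V : Matrix (Fin (n + 1)) (Fin (n + 1)) K) - (d : K) • 1).det)
    (hpair : ∀ N : GL (Fin (n + 1)) K,
      (n = 0 ∨ ∀ μ : K, (N : Matrix (Fin (n + 1)) (Fin (n + 1)) K) ≠ μ • 1) →
      (N : Matrix (Fin (n + 1)) (Fin (n + 1)) K).det =
        (U : Matrix (Fin (n + 1)) (Fin (n + 1)) K).det * (V : Matrix (Fin (n + 1)) (Fin (n + 1)) K).det →
      ∃ x y, IsConj U x ∧ IsConj V y ∧ N = x * y)
    (A : GL (Fin (n + 2)) K) (hns : ∀ μ : K, (A : Matrix (Fin (n + 2)) (Fin (n + 2)) K) ≠ μ • 1)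
    (hdet : (A : Matrix (Fin (n + 2)) (Fin (n + 2)) K).det = (c : K) * (d : K) *
      ((U : Matrix (Fin (n + 1)) (Fin (n + 1)) K).det * (V : Matrix (Fin (n + 1)) (Fin (n + 1)) K).det)) :
    ∃ x y, IsConj (cornerHom (c, U)) x ∧ IsConj (cornerHom (d, V)) y ∧ A = x * y := by
  have hc0 : (c : K) ≠ 0 := c.ne_zero
  have hd0 : (d : K) ≠ 0 := d.ne_zero
  have hb : (c : K) * d ≠ 0 := mul_ne_zero hc0 hd0
  have hUd : IsUnit (U : Matrix (Fin (n + 1)) (Fin (n + 1)) K).det := (Matrix.isUnit_iff_isUnit_det _).1 U.isUnit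
  have hVd : IsUnit (V : Matrix (Fin (n + 1)) (Fin (n + 1)) K).det := (Matrix.isUnit_iff_isUnit_det _).1 V.isUnit
  obtain ⟨P, hP, r, cc, M, hAP, hN⟩ := exists_good_border hns
    (by rw [hdet]; exact mul_ne_zero hb (mul_ne_zero hUd.ne_zero hVd.ne_zero)) ((c : K) * d) hb
  set N := M - ((c : K) * d)⁻¹ • vecMulVec cc r with hNdef
  have hdN : N.det = (U : Matrix (Fin (n + 1)) (Fin (n + 1)) K).det * (V : Matrix (Fin (n + 1)) (Fin (n + 1)) K).det := by
    have hfac : border ((c : K) * d) r cc M =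
        border 1 0 (((c : K) * d)⁻¹ • cc) 1 * border ((c : K) * d) r 0 N := by
      rw [border_mul]
      congr 1
      · simp
      · simp
      · rw [Matrix.mulVec_zero, add_zero, smul_smul, mul_inv_cancel₀ hb, one_smul]
      · rw [Matrix.one_mul, Matrix.smul_vecMulVec, hNdef, add_sub_cancel]
    have h := congrArg Matrix.det hAP
    rw [Matrix.det_mul, Matrix.det_mul, hfac, Matrix.det_mul, det_border_zero_row, det_border_zero_col, hdet,
      mul_comm _ P.det] at h
    have h2 := mul_left_cancel₀ hP.ne_zero h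
    simp only [Matrix.det_one, mul_one, one_mul] at h2
    exact (mul_left_cancel₀ hb h2).symm
  obtain ⟨X1, X2, hc1, hc2, hxy⟩ := hpair (GeneralLinearGroup.mk'' N (by rw [hdN]; exact hUd.mul hVd)) hN hdN
  have hX12 : (X1 : Matrix (Fin (n + 1)) (Fin (n + 1)) K) * (X2 : Matrix _ _ K) = N := by
    rw [← Units.val_mul, ← hxy]; rfl
  let L : GL (Fin (n + 2)) K := GeneralLinearGroup.mk'' (border (c : K) 0 ((d : K)⁻¹ • cc) (X1 : Matrix _ _ K))
    (by rw [det_border_zero_row]; exact c.isUnit.mul ((Matrix.isUnit_iff_isUnit_det _).1 X1.isUnit))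
  let R : GL (Fin (n + 2)) K := GeneralLinearGroup.mk'' (border (d : K) ((c : K)⁻¹ • r) 0 (X2 : Matrix _ _ K))
    (by rw [det_border_zero_col]; exact d.isUnit.mul ((Matrix.isUnit_iff_isUnit_det _).1 X2.isUnit))
  have hLR : (L : Matrix (Fin (n + 2)) (Fin (n + 2)) K) * (R : Matrix _ _ K) = border ((c : K) * d) r cc M := by
    show border (c : K) 0 ((d : K)⁻¹ • cc) (X1 : Matrix _ _ K) *
      border (d : K) ((c : K)⁻¹ • r) 0 (X2 : Matrix _ _ K) = _
    rw [border_mul]
    congr 1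
    · simp
    · simp [smul_smul, hc0]
    · simp [smul_smul, hd0]
    · rw [hX12, hNdef, Matrix.smul_vecMulVec, Matrix.vecMulVec_smul, smul_smul, mul_inv, mul_comm (c : K)⁻¹]
      abel
  have hconj : IsConj (L * R) A := isConj_of_mul hP (by rw [Units.val_mul, hLR]; exact hAP)
  obtain ⟨a, rfl⟩ := isConj_iff.1 hconj
  refine ⟨a * L * a⁻¹, a * R * a⁻¹, (isConj_corner_col hu hc1 _ rfl).trans (isConj_iff.2 ⟨a, rfl⟩),
    (isConj_corner_row hv hc2 _ rfl).trans (isConj_iff.2 ⟨a, rfl⟩), by group⟩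

theorem two_iff {G : Type*} [Group G] {c g : G} : Two c g ↔ ∃ x y, IsConj c x ∧ IsConj c y ∧ g = x * y :=
  ⟨fun ⟨x, y, h⟩ => ⟨_, _, isConj_iff.2 ⟨x, rfl⟩, isConj_iff.2 ⟨y, rfl⟩, h⟩,
    fun ⟨_, _, hx, hy, h⟩ => h ▸ two_of_isConj hx hy⟩

/-- Scaling the pair of regular unipotents. -/
theorem pair_scal [Fintype K] (hK : 4 ≤ Fintype.card K) (l : Kˣ) (N : GL (Fin (n + 1)) K)
    (hns : n = 0 ∨ ∀ μ : K, (N : Matrix (Fin (n + 1)) (Fin (n + 1)) K) ≠ μ • 1)
    (hdet : (N : Matrix (Fin (n + 1)) (Fin (n + 1)) K).det = ((l : K) ^ (n + 1)) ^ 2) :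
    Two (scal l * jordanGL K (n + 1)) N := by
  have hl0 : (l : K) ≠ 0 := l.ne_zero
  set X := scal (l ^ 2)⁻¹ * N with hX
  have hXv : (X : Matrix (Fin (n + 1)) (Fin (n + 1)) K) = ((l : K) ^ 2)⁻¹ • (N : Matrix _ _ K) := by
    simp [hX]
  obtain ⟨x, y, hxy⟩ := pair_jordan hK X
    (by rw [hXv, Matrix.det_smul, hdet, Fintype.card_fin, inv_pow]; field_simp; ring)
    (hns.imp id fun h μ hμ => h ((l : K) ^ 2 * μ) (by
      rw [hXv] at hμ
      have := congrArg (fun B : Matrix (Fin (n + 1)) (Fin (n + 1)) K => (l : K) ^ 2 • B) hμ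
      rwa [smul_smul, mul_inv_cancel₀ (pow_ne_zero _ hl0), one_smul, smul_smul] at this))
  rw [hX] at hxy
  have hN : N = scal (l ^ 2) * (x * jordanGL K (n + 1) * x⁻¹ * (y * jordanGL K (n + 1) * y⁻¹)) := by
    rw [← hxy]; apply Units.ext; simp [smul_smul, hl0]
  have e : scal (l ^ 2) * (x * jordanGL K (n + 1) * x⁻¹ * (y * jordanGL K (n + 1) * y⁻¹)) =
      (scal l * (x * jordanGL K (n + 1) * x⁻¹)) * (scal l * (y * jordanGL K (n + 1) * y⁻¹)) := by
    apply Units.ext
    simp [sq, Matrix.smul_mul, Matrix.mul_smul, smul_smul]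
  rw [hN, e]
  exact two_of_isConj (isConj_scal_mul l (isConj_iff.2 ⟨x, rfl⟩)) (isConj_scal_mul l (isConj_iff.2 ⟨y, rfl⟩))

/-- A non-scalar matrix with the determinant of a square of the class is a product of two members. -/
theorem pair_cls [Fintype K] (hK : 4 ≤ Fintype.card K) {c l : Kˣ} (hcl : c ≠ l)
    (A : GL (Fin (n + 2)) K) (hns : ∀ μ : K, (A : Matrix (Fin (n + 2)) (Fin (n + 2)) K) ≠ μ • 1)
    (hdet : (A : Matrix (Fin (n + 2)) (Fin (n + 2)) K).det = ((c : K) * (l : K) ^ (n + 1)) ^ 2) :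
    Two (cls c l (n + 1)) A := by
  have hu : IsUnit (((scal l * jordanGL K (n + 1) : GL (Fin (n + 1)) K) : Matrix (Fin (n + 1)) (Fin (n + 1)) K) -
      (c : K) • 1).det := by
    simp only [Units.val_mul, coe_scal, coe_jordanGL, Matrix.smul_mul, Matrix.one_mul, det_scalJordan_sub]
    exact (IsUnit.mk0 _ (sub_ne_zero.2 (by exact_mod_cast Ne.symm hcl))).pow _
  refine two_iff.2 (pair_step hu hu (fun N hN hd => two_iff.1 (pair_scal hK l N hN ?_)) A hns ?_)
  · rw [hd]; simp [Matrix.det_smul, det_jordan]; ring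
  · rw [hdet]; simp [Matrix.det_smul, det_jordan]; ring

end gl

end H21.ClassSquare
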