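import Cfsg.Agent.H21.ClassSquare.Base

/-!
Class squares in `PSL_n(q)`, `q ≥ 9`.
-/

set_option autoImplicit false
set_option linter.style.haveILetI false

namespace H21.ClassSquare

open Matrix H41 H41.Reg
open scoped MatrixGroups

variable {K : Type*} [Field K] {n : ℕ}

theorem regUpper_inv_jordan : IsRegUpper (((jordanGL K n)⁻¹ : GL (Fin n) K) : Matrix (Fin n) (Fin n) K) := by
  set J := jordan K n with hJ
  have hJt : J.BlockTriangular id := fun i j h => (jordan_reg (K := K)).1.1 i j h
  have hu : IsUnit J.det := by rw [hJ, det_jordan]; exact isUnit_one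
  haveI := J.invertibleOfIsUnitDet hu
  have hBt : J⁻¹.BlockTriangular id := Matrix.blockTriangular_inv_of_blockTriangular hJt
  rw [Matrix.coe_units_inv, coe_jordanGL, ← hJ]
  set B := J⁻¹ with hB
  have hJB : J * B = 1 := Matrix.mul_nonsing_inv _ hu
  have hdiag : ∀ i, B i i = 1 := by
    intro i
    have h1 := congrFun (congrFun hJB i) i
    rw [Matrix.mul_apply, Finset.sum_eq_single i, show J i i = 1 from (jordan_reg (K := K)).1.2 i, one_mul,
      Matrix.one_apply_eq] at h1
    · exact h1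
    · intro l _ hl
      rcases lt_or_gt_of_ne hl with h | h
      · rw [hJt h, zero_mul]
      · rw [hBt h, mul_zero]
    · simp
  refine ⟨⟨fun i j h => hBt h, hdiag⟩, fun i j hij => ?_⟩
  have h1 := congrFun (congrFun hJB i) j
  rw [Matrix.mul_apply, ← Finset.sum_subset (s₁ := {i, j}) (Finset.subset_univ _)] at h1
  · rw [Finset.sum_pair (fun e => by rw [e] at hij; omega), hdiag j,
      show J i i = 1 from (jordan_reg (K := K)).1.2 i, Matrix.one_apply_ne (fun e => by rw [e] at hij; omega)] at h1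
    intro h0
    rw [h0, mul_zero, zero_add, mul_one] at h1
    exact (jordan_reg (K := K)).2 i j hij h1
  · intro l _ hl
    simp only [Finset.mem_insert, Finset.mem_singleton, not_or] at hl
    rcases lt_or_gt_of_ne hl.1 with h | h
    · rw [hJt h, zero_mul]
    · have : ¬ l.val = i.val + 1 := fun e => hl.2 (Fin.ext (by omega))
      simp [J, jordan, Ne.symm hl.1, this]

theorem isConj_jordan_inv (hn : 0 < n) : IsConj (jordanGL K n) (jordanGL K n)⁻¹ :=
  isConj_jordan_upper hn regUpper_inv_jordan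

/-- Exchanging the two corners. -/
theorem isConj_corner_swap (a b : Kˣ) (X : GL (Fin n) K) :
    IsConj (cornerHom (a, cornerHom (b, X))) (cornerHom (b, cornerHom (a, X))) := by
  classical
  let σ : Equiv.Perm (Fin (n + 1 + 1)) := Equiv.swap 0 1
  let P : Matrix (Fin (n + 1 + 1)) (Fin (n + 1 + 1)) K := (1 : Matrix _ _ K).submatrix σ id
  refine isConj_of_mul (P := P) ?_ ?_
  · rw [Matrix.det_permute, Matrix.det_one, mul_one]
    rcases Int.units_eq_one_or (Equiv.Perm.sign σ) with h | h <;> simp [h]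
  · simp only [coe_cornerHom]
    have hs : ∀ i : Fin n, σ i.succ.succ = i.succ.succ := fun i =>
      Equiv.swap_apply_of_ne_of_ne (Fin.succ_ne_zero _) (by simp [Fin.ext_iff])
    have h0 : σ 0 = (0 : Fin (n + 1)).succ := (Equiv.swap_apply_left _ _).trans Fin.succ_zero_eq_one.symm
    have h1 : σ (0 : Fin (n + 1)).succ = 0 := by rw [Fin.succ_zero_eq_one]; exact Equiv.swap_apply_right _ _
    ext i j
    rw [Matrix.mul_apply, Matrix.mul_apply, Finset.sum_eq_single (σ j), Finset.sum_eq_single (σ i)]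
    · have hσ : σ (σ j) = j := Equiv.swap_apply_self _ _ _
      simp only [P, Matrix.submatrix_apply, id, Matrix.one_apply, hσ, if_true, mul_one, one_mul]
      clear hσ
      revert i j
      refine Fin.cases ?_ (Fin.cases ?_ fun i => ?_) <;> refine Fin.cases ?_ (Fin.cases ?_ fun j => ?_) <;>
        simp only [h0, h1, hs, border_zero_zero, border_zero_succ, border_succ_zero, border_succ_succ, Pi.zero_apply]
    · intro l _ hl
      simp [P, Matrix.one_apply, Ne.symm hl]
    · simp
    · intro l _ hl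
      have : σ l ≠ j := fun e => hl (by rw [← e]; exact (Equiv.swap_apply_self _ _ _).symm)
      simp [P, Matrix.one_apply, this]
    · simp

/-- From `GL` to `SL` when the centraliser of the class has every determinant. -/
theorem isConj_sl {c d : Matrix.SpecialLinearGroup (Fin n) K}
    (hz : ∀ t : Kˣ, ∃ z : GL (Fin n) K, Commute z (Matrix.SpecialLinearGroup.toGL c) ∧
      (z : Matrix (Fin n) (Fin n) K).det = t)
    (h : IsConj (Matrix.SpecialLinearGroup.toGL c) (Matrix.SpecialLinearGroup.toGL d)) : IsConj c d := by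
  obtain ⟨x, hx⟩ := isConj_iff.1 h
  obtain ⟨z, hz1, hz2⟩ := hz (GeneralLinearGroup.det x)⁻¹
  have hd : ((x * z : GL (Fin n) K) : Matrix (Fin n) (Fin n) K).det = 1 := by
    rw [Units.val_mul, Matrix.det_mul, hz2, ← GeneralLinearGroup.val_det_apply, ← Units.val_mul, mul_inv_cancel,
      Units.val_one]
  let w : Matrix.SpecialLinearGroup (Fin n) K := ⟨_, hd⟩
  refine isConj_iff.2 ⟨w, Matrix.SpecialLinearGroup.toGL_injective ?_⟩
  rw [map_mul, map_mul, map_inv, show Matrix.SpecialLinearGroup.toGL w = x * z from Units.ext rfl,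
    ← hx, _root_.mul_inv_rev, show x * z * Matrix.SpecialLinearGroup.toGL c * (z⁻¹ * x⁻¹) =
      x * (z * Matrix.SpecialLinearGroup.toGL c * z⁻¹) * x⁻¹ by group, hz1.eq, mul_inv_cancel_right]

theorem two_sl {c g : Matrix.SpecialLinearGroup (Fin n) K}
    (hz : ∀ t : Kˣ, ∃ z : GL (Fin n) K, Commute z (Matrix.SpecialLinearGroup.toGL c) ∧
      (z : Matrix (Fin n) (Fin n) K).det = t)
    (h : Two (Matrix.SpecialLinearGroup.toGL c) (Matrix.SpecialLinearGroup.toGL g)) : Two c g := by
  obtain ⟨x, y, hxy⟩ := h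
  have hd : ∀ w : GL (Fin n) K,
      ((w * Matrix.SpecialLinearGroup.toGL c * w⁻¹ : GL (Fin n) K) : Matrix (Fin n) (Fin n) K).det = 1 := fun w => by
    rw [Units.val_mul, Units.val_mul, Matrix.det_units_conj]
    exact c.2
  have e : g = ⟨_, hd x⟩ * ⟨_, hd y⟩ := Matrix.SpecialLinearGroup.toGL_injective (hxy.trans (Units.ext rfl))
  rw [e]
  exact two_of_isConj (isConj_sl hz (isConj_iff.2 ⟨x, Units.ext rfl⟩))
    (isConj_sl hz (isConj_iff.2 ⟨y, Units.ext rfl⟩))

theorem not_scalar_of_not_center {g : Matrix.SpecialLinearGroup (Fin n) K}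
    (hg : g ∉ Subgroup.center (Matrix.SpecialLinearGroup (Fin n) K)) (μ : K) :
    (g : Matrix (Fin n) (Fin n) K) ≠ μ • 1 := by
  intro h
  refine hg (Matrix.SpecialLinearGroup.mem_center_iff.2 ⟨μ, ?_, ?_⟩)
  · have := g.2
    rw [h, Matrix.det_smul, Matrix.det_one, mul_one] at this
    simpa using this
  · rw [h, Matrix.scalar_apply, Matrix.smul_one_eq_diagonal]

theorem exists_sq_ne_one [Fintype K] (hK : 4 ≤ Fintype.card K) : ∃ a : Kˣ, (a : K) ^ 2 ≠ 1 := by
  classical
  by_contra h
  push Not at h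
  have : (Finset.univ : Finset K) ⊆ {0, 1, -1} := fun x _ => by
    by_cases hx : x = 0
    · simp [hx]
    · rcases sq_eq_one_iff.1 (h (Units.mk0 x hx)) with e | e <;> simp_all
  have := (Finset.card_le_card this).trans Finset.card_le_three
  rw [Finset.card_univ] at this
  omega

theorem exists_psl [Fintype K] (hK : 9 ≤ Fintype.card K) : ∀ n, 2 ≤ n →
    ∃ c : Matrix.SpecialLinearGroup (Fin n) K, IsConj c c⁻¹ ∧
      ∀ g, g ∉ Subgroup.center (Matrix.SpecialLinearGroup (Fin n) K) → Two c g := by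
  classical
  obtain ⟨a, ha⟩ := exists_sq_ne_one (K := K) (by omega)
  have ha0 : (a : K) ≠ 0 := a.ne_zero
  have ha1 : (a : K) ≠ 1 := fun e => ha (by rw [e, one_pow])
  have hai : (a : K) ≠ (a : K)⁻¹ := fun e => ha (by rw [sq]; conv_lhs => { arg 2; rw [e] }; exact mul_inv_cancel₀ ha0)
  have hai1 : (a : K)⁻¹ ≠ 1 := fun e => ha1 (inv_eq_one.1 e)
  intro n hn
  match n, hn with
  | 2, _ =>
    let D : Matrix.SpecialLinearGroup (Fin 2) K := ⟨Matrix.diagonal ![(a : K), (a : K)⁻¹],
      by simp [Matrix.det_diagonal, Fin.prod_univ_two, ha0]⟩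
    refine ⟨D, ?_, fun g hg => ?_⟩
    · let w : Matrix.SpecialLinearGroup (Fin 2) K := ⟨!![0, 1; -1, 0], by simp [Matrix.det_fin_two]⟩
      refine isConj_iff.2 ⟨w, ?_⟩
      rw [mul_inv_eq_iff_eq_mul, eq_inv_mul_iff_mul_eq]
      apply Subtype.ext
      ext i j
      simp only [Matrix.SpecialLinearGroup.coe_mul]
      fin_cases i <;> fin_cases j <;> simp [D, w, Matrix.mul_apply, Fin.sum_univ_two, ha0, Matrix.vecMul_diagonal]
    · exact exists_two_conj_diagonal (n := 1) (β := ![(a : K), (a : K)⁻¹])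
        (fun i j h => by fin_cases i <;> fin_cases j <;> simp_all [eq_comm])
        (fun i => by fin_cases i <;> simp [ha0]) D g rfl (not_scalar_of_not_center hg)
  | 3, _ =>
    let D : Matrix.SpecialLinearGroup (Fin 3) K := ⟨Matrix.diagonal ![(a : K), (a : K)⁻¹, 1],
      by simp [Matrix.det_diagonal, Fin.prod_univ_three, ha0]⟩
    refine ⟨D, ?_, fun g hg => ?_⟩
    · let w : Matrix.SpecialLinearGroup (Fin 3) K := ⟨!![0, 1, 0; -1, 0, 0; 0, 0, 1], by simp [Matrix.det_fin_three]⟩
      refine isConj_iff.2 ⟨w, ?_⟩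
      rw [mul_inv_eq_iff_eq_mul, eq_inv_mul_iff_mul_eq]
      apply Subtype.ext
      ext i j
      simp only [Matrix.SpecialLinearGroup.coe_mul]
      fin_cases i <;> fin_cases j <;> simp [D, w, Matrix.mul_apply, Fin.sum_univ_three, ha0, Matrix.vecMul_diagonal]
    · exact exists_two_conj_diagonal (n := 2) (β := ![(a : K), (a : K)⁻¹, 1])
        (fun i j h => by fin_cases i <;> fin_cases j <;> simp_all [eq_comm])
        (fun i => by fin_cases i <;> simp [ha0]) D g rfl (not_scalar_of_not_center hg)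
  | k + 4, _ =>
    have hcd : ((cornerHom (a, cornerHom (a⁻¹, jordanGL K (k + 2))) : GL (Fin (k + 4)) K) :
        Matrix (Fin (k + 4)) (Fin (k + 4)) K).det = 1 := by
      simp [det_border_zero_col, det_jordan, ha0]
    let c : Matrix.SpecialLinearGroup (Fin (k + 4)) K := ⟨_, hcd⟩
    have hc : Matrix.SpecialLinearGroup.toGL c = cornerHom (a, cornerHom (a⁻¹, jordanGL K (k + 2))) := Units.ext rfl
    have hz : ∀ t : Kˣ, ∃ z : GL (Fin (k + 4)) K, Commute z (Matrix.SpecialLinearGroup.toGL c) ∧
        (z : Matrix (Fin (k + 4)) (Fin (k + 4)) K).det = t := fun t =>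
      ⟨cornerHom (t, 1), by rw [hc]; refine Commute.map ?_ _; exact Prod.ext (mul_comm _ _) (by simp),
        by simp [det_border_zero_col]⟩
    refine ⟨c, isConj_sl hz ?_, fun g hg => two_sl hz ?_⟩
    · rw [map_inv, hc, ← map_inv, Prod.inv_mk, ← map_inv, Prod.inv_mk, inv_inv]
      exact (isConj_cornerHom _ (isConj_cornerHom _ (isConj_jordan_inv (by omega)))).trans
        (isConj_corner_swap _ _ _)
    · have hu : ∀ x y : Kˣ, (x : K) ≠ y → (x : K) ≠ 1 → IsUnit (((cornerHom (y, jordanGL K (k + 2)) :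
          GL (Fin (k + 3)) K) : Matrix (Fin (k + 3)) (Fin (k + 3)) K) - (x : K) • 1).det := by
        intro x y hxy hx1
        have : cls y 1 (k + 2) = cornerHom (y, jordanGL K (k + 2)) := by
          rw [cls, show scal (1 : Kˣ) = (1 : GL (Fin (k + 2)) K) from map_one _, one_mul]
        rw [← this, det_cls_sub]
        exact (IsUnit.mk0 _ (sub_ne_zero.2 hxy.symm)).mul ((IsUnit.mk0 _ (sub_ne_zero.2 (by simpa using hx1.symm))).pow _)
      have hJ : ∀ x : Kˣ, (x : K) ≠ 1 → IsUnit (((jordanGL K (k + 2)) :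
          Matrix (Fin (k + 2)) (Fin (k + 2)) K) - (x : K) • 1).det := by
        intro x hx1
        have h := det_scalJordan_sub (n := k + 2) (x : K) 1
        rw [one_smul] at h
        rw [coe_jordanGL, h]
        exact (IsUnit.mk0 _ (sub_ne_zero.2 hx1.symm)).pow _
      obtain ⟨x, y, hx, hy, e⟩ := pair_step (c := a) (d := a⁻¹) (U := cornerHom (a⁻¹, jordanGL K (k + 2)))
        (V := cornerHom (a, jordanGL K (k + 2))) (hu a a⁻¹ (by simpa using hai) ha1)
        (hu a⁻¹ a (by simpa using hai.symm) (by simpa using hai1))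
        (fun N hN hd => pair_step (c := a⁻¹) (d := a) (hJ a⁻¹ (by simpa using hai1)) (hJ a ha1)
          (fun M hM hd' => two_iff.1 (pair_jordan (by omega) M (by simpa [det_jordan] using hd') hM)) N
          (hN.resolve_left (by omega)) (by simpa [det_border_zero_col, det_jordan, ha0] using hd))
        (Matrix.SpecialLinearGroup.toGL g) (not_scalar_of_not_center hg)
        (by
          show (g : Matrix (Fin (k + 4)) (Fin (k + 4)) K).det = _
          rw [g.2]
          simp [det_border_zero_col, det_jordan, ha0])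
      rw [hc, e]
      exact two_of_isConj hx ((isConj_corner_swap _ _ _).trans hy)

theorem psl_square [Fintype K] (hK : 9 ≤ Fintype.card K) {m : ℕ} (hm : 2 ≤ m) {G : Type*} [Group G]
    (e : G ≃* Matrix.ProjectiveSpecialLinearGroup (Fin m) K) :
    ∃ c : G, ∀ g : G, ∃ x y : G, g = (x * c * x⁻¹) * (y * c * y⁻¹) := by
  obtain ⟨c, hc, h⟩ := exists_psl hK m hm
  exact quotient_square e hc h

end H21.ClassSquare
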