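import Cfsg.Agent.H21.ClassSquare.PSL
import Cfsg.Agent.H9.SLQuasi

/-!
Class squares from a Siegel parabolic: the general argument for the symplectic and orthogonal groups.
-/

set_option autoImplicit false
set_option linter.style.haveILetI false
set_option linter.unusedSectionVars false

namespace H21.ClassSquare

open Matrix H41 H41.Reg
open scoped MatrixGroups commutatorElement

variable {K : Type*} [Field K] {ι : Type*} [Fintype ι] [DecidableEq ι]

/-- Unitriangular with respect to a grading. -/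
def gradUnip (ε : ι → ℤ) : Submonoid (GL ι K) where
  carrier := {g | ∀ x y, ε x ≤ ε y → (g : Matrix ι ι K) x y = (1 : Matrix ι ι K) x y}
  one_mem' := fun x y _ => by simp
  mul_mem' := by
    intro a b ha hb x y hxy
    rw [Units.val_mul, Matrix.mul_apply, Finset.sum_eq_single x]
    · rw [ha x x le_rfl, hb x y hxy, Matrix.one_apply_eq, one_mul]
    · intro k _ hk
      by_cases h : ε x ≤ ε k
      · rw [ha x k h, Matrix.one_apply_ne hk.symm, zero_mul]
      · have h' : ε k < ε x := not_le.1 h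
        rw [hb k y (h'.le.trans hxy),
          Matrix.one_apply_ne (fun e => by rw [e] at h'; exact absurd hxy (not_le.2 h')), mul_zero]
    · simp

/-- Block diagonal with respect to a grading. -/
def IsBlock (ε : ι → ℤ) (M : Matrix ι ι K) : Prop := ∀ x y, ε x ≠ ε y → M x y = 0

theorem gradUnip_conj {ε : ι → ℤ} {u t : GL ι K} (hu : u ∈ gradUnip ε)
    (ht : IsBlock ε (t : Matrix ι ι K)) (ht' : IsBlock ε ((t⁻¹ : GL ι K) : Matrix ι ι K)) :
    t * u * t⁻¹ ∈ gradUnip ε := by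
  intro x y hxy
  rw [Units.val_mul, Units.val_mul]
  set N := (u : Matrix ι ι K) - 1 with hN
  have hu' : (u : Matrix ι ι K) = 1 + N := by rw [hN]; abel
  rw [hu', Matrix.mul_add, Matrix.add_mul, Matrix.mul_one, Units.mul_inv, Matrix.add_apply, add_eq_left,
    Matrix.mul_apply]
  refine Finset.sum_eq_zero fun k _ => ?_
  by_cases hk : ε k = ε y
  swap
  · rw [ht' k y hk, mul_zero]
  rw [Matrix.mul_apply, Finset.sum_eq_zero, zero_mul]
  intro l _
  by_cases hl : ε x = ε l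
  swap
  · rw [ht x l hl, zero_mul]
  rw [hN, Matrix.sub_apply, hu l k (by rw [← hl, hk]; exact hxy), sub_self, mul_zero]

theorem eq_one_of_commute_diagonal {M : Matrix ι ι K} {d : ι → K} (h : Matrix.diagonal d * M = M * Matrix.diagonal d)
    (hd : ∀ x y, d x = d y → M x y = (1 : Matrix ι ι K) x y) : M = 1 := by
  ext x y
  by_cases hxy : d x = d y
  · exact hd x y hxy
  · have := congrFun (congrFun h x) y
    rw [Matrix.diagonal_mul, Matrix.mul_diagonal] at this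
    have h0 : (d x - d y) * M x y = 0 := by rw [sub_mul, this]; ring
    rw [(mul_eq_zero.1 h0).resolve_left (sub_ne_zero.2 hxy),
      Matrix.one_apply_ne (fun e => hxy (by rw [e]))]

/-- An invertible diagonal matrix. -/
noncomputable def diagU {n : ℕ} (d : Fin n → Kˣ) : GL (Fin n) K :=
  GeneralLinearGroup.mk'' (Matrix.diagonal fun i => (d i : K))
    (by rw [Matrix.det_diagonal]; exact IsUnit.mk0 _ (Finset.prod_ne_zero_iff.2 fun i _ => (d i).ne_zero))

/-- A power of the class of `cls` is diagonal, and the exponent is invertible on scalars. -/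
theorem exists_pow_cls [Finite K] (c l : Kˣ) (n : ℕ) :
    ∃ N : ℕ, cls c l n ^ N = diagU (Fin.cons (c ^ N) fun _ : Fin n => l ^ N) ∧ ∀ x : K, x ^ N = 1 → x = 1 := by
  obtain ⟨p, hp⟩ := CharP.exists K
  haveI hpr : Fact p.Prime := ⟨CharP.char_is_prime K p⟩
  refine ⟨p ^ n, ?_, fun x hx => ?_⟩
  · have hJ : jordan K n ^ p ^ n = 1 := by
      rcases Nat.eq_zero_or_pos n with rfl | hn
      · exact Subsingleton.elim _ _
      have hu : jordanGL K n ^ p ^ n = 1 := by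
        haveI : Nonempty (Fin n) := ⟨⟨0, hn⟩⟩
        have h1 : (jordan K n - 1) ^ n = 0 := by
          have h := Matrix.aeval_self_charpoly (jordan K n)
          rw [Matrix.charpoly_of_upperTriangular _ (fun i j h => (jordan_reg (K := K)).1.1 i j h)] at h
          rw [Finset.prod_congr rfl (fun i _ => by rw [show jordan K n i i = 1 from (jordan_reg (K := K)).1.2 i]),
            Finset.prod_const, Finset.card_univ, Fintype.card_fin] at h
          simpa using h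
        have h2 : (jordan K n - 1) ^ p ^ n = 0 :=
          pow_eq_zero_of_le (Nat.lt_pow_self hpr.out.one_lt).le h1
        haveI : CharP (Matrix (Fin n) (Fin n) K) p := inferInstance
        apply Units.ext
        rw [Units.val_pow_eq_pow_val, coe_jordanGL, Units.val_one]
        have h3 := sub_pow_char_pow_of_commute p n (Commute.one_right (jordan K n))
        rw [h2, one_pow] at h3
        exact sub_eq_zero.1 h3.symm
      exact congrArg Units.val hu
    rw [cls, ← map_pow]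
    apply Units.ext
    rw [Prod.pow_mk, coe_cornerHom, (scal_comm l (jordanGL K n)).mul_pow]
    ext i j
    cases i using Fin.cases <;> cases j using Fin.cases <;>
      simp [diagU, hJ, Matrix.diagonal_apply, Matrix.one_apply, (Fin.succ_ne_zero _).symm, Fin.succ_ne_zero,
        smul_pow, mul_comm]
  · have h := sub_pow_char_pow (R := K) (p := p) (n := n) x 1
    rw [hx, one_pow, sub_self] at h
    exact sub_eq_zero.1 (eq_zero_of_pow_eq_zero h)

/-- A group of matrices with a Levi subgroup `GL_m` of a Siegel parabolic subgroup. -/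
structure Siegel (G : Type*) [Group G] (ι : Type*) [Fintype ι] [DecidableEq ι] (K : Type*) [Field K] (m : ℕ) where
  mat : G →* GL ι K
  inj : Function.Injective mat
  ε : ι → ℤ
  e : Fin m → ι
  f : Fin m → ι
  ε_e : ∀ i, ε (e i) = 1
  ε_f : ∀ i, ε (f i) = -1
  ε_le : ∀ x, ε x ≤ 1
  ε_ge : ∀ x, -1 ≤ ε x
  e_surj : ∀ x, ε x = 1 → ∃ i, e i = x
  e_inj : Function.Injective e
  f_inj : Function.Injective f
  L : GL (Fin m) K →* G
  L_block : ∀ X, IsBlock ε (mat (L X) : Matrix ι ι K)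
  L_e : ∀ X i j, (mat (L X) : Matrix ι ι K) (e i) (e j) = (X : Matrix (Fin m) (Fin m) K) i j

namespace Siegel

variable {G : Type*} [Group G] [Finite G] {m : ℕ} (D : Siegel G ι K m)

/-- The upper radical. -/
def U : Subgroup G where
  toSubmonoid := (gradUnip D.ε).comap D.mat
  inv_mem' {g} hg := by
    have : g⁻¹ = g ^ (Nat.card G - 1) := by
      rw [inv_eq_iff_mul_eq_one, ← pow_succ', Nat.sub_add_cancel Nat.card_pos, pow_card_eq_one']
    rw [this]
    exact Submonoid.pow_mem _ hg _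

/-- The lower radical. -/
def V : Subgroup G where
  toSubmonoid := (gradUnip fun x => -D.ε x).comap D.mat
  inv_mem' {g} hg := by
    have : g⁻¹ = g ^ (Nat.card G - 1) := by
      rw [inv_eq_iff_mul_eq_one, ← pow_succ', Nat.sub_add_cancel Nat.card_pos, pow_card_eq_one']
    rw [this]
    exact Submonoid.pow_mem _ hg _

theorem mem_U {g : G} : g ∈ D.U ↔
    ∀ x y, D.ε x ≤ D.ε y → (D.mat g : Matrix ι ι K) x y = (1 : Matrix ι ι K) x y := Iff.rfl

theorem mem_V {g : G} : g ∈ D.V ↔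
    ∀ x y, D.ε y ≤ D.ε x → (D.mat g : Matrix ι ι K) x y = (1 : Matrix ι ι K) x y := by
  refine ⟨fun h x y hxy => h x y (neg_le_neg hxy), fun h x y hxy => h x y (neg_le_neg_iff.1 hxy)⟩

theorem L_conj_U {u : G} (hu : u ∈ D.U) (X : GL (Fin m) K) : D.L X * u * (D.L X)⁻¹ ∈ D.U := by
  show D.mat _ ∈ gradUnip D.ε
  rw [map_mul, map_mul, map_inv]
  exact gradUnip_conj hu (D.L_block X) (by rw [← map_inv, ← map_inv]; exact D.L_block _)

theorem L_conj_V {u : G} (hu : u ∈ D.V) (X : GL (Fin m) K) : D.L X * u * (D.L X)⁻¹ ∈ D.V := by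
  show D.mat _ ∈ gradUnip fun x => -D.ε x
  rw [map_mul, map_mul, map_inv]
  exact gradUnip_conj hu (fun x y h => D.L_block X x y fun e => h (by rw [e]))
    (fun x y h => by rw [← map_inv, ← map_inv]; exact D.L_block _ x y fun e => h (by rw [e]))

/-- The upper left block. -/
def top (g : G) : Matrix (Fin m) (Fin m) K := (D.mat g : Matrix ι ι K).submatrix D.e D.e

/-- The upper right block. -/
def ur (g : G) : Matrix (Fin m) (Fin m) K := (D.mat g : Matrix ι ι K).submatrix D.e D.f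

theorem mul_U_e {g u : G} (hu : u ∈ D.U) (x : ι) (j : Fin m) :
    (D.mat (g * u) : Matrix ι ι K) x (D.e j) = (D.mat g : Matrix ι ι K) x (D.e j) := by
  rw [map_mul, Units.val_mul, Matrix.mul_apply, Finset.sum_eq_single (D.e j)]
  · rw [hu _ _ le_rfl, Matrix.one_apply_eq, mul_one]
  · intro k _ hk
    rw [hu k _ (by rw [D.ε_e]; exact D.ε_le k), Matrix.one_apply_ne hk, mul_zero]
  · simp

theorem mul_V_f {g z : G} (hz : z ∈ D.V) (x : ι) (j : Fin m) :
    (D.mat (g * z) : Matrix ι ι K) x (D.f j) = (D.mat g : Matrix ι ι K) x (D.f j) := by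
  rw [map_mul, Units.val_mul, Matrix.mul_apply, Finset.sum_eq_single (D.f j)]
  · rw [(D.mem_V).1 hz _ _ le_rfl, Matrix.one_apply_eq, mul_one]
  · intro k _ hk
    rw [(D.mem_V).1 hz k _ (by rw [D.ε_f]; exact D.ε_ge k), Matrix.one_apply_ne hk, mul_zero]
  · simp

theorem V_mul_e {g z : G} (hz : z ∈ D.V) (i : Fin m) (y : ι) :
    (D.mat (z * g) : Matrix ι ι K) (D.e i) y = (D.mat g : Matrix ι ι K) (D.e i) y := by
  rw [map_mul, Units.val_mul, Matrix.mul_apply, Finset.sum_eq_single (D.e i)]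
  · rw [(D.mem_V).1 hz _ _ le_rfl, Matrix.one_apply_eq, one_mul]
  · intro k _ hk
    rw [(D.mem_V).1 hz _ k (by rw [D.ε_e]; exact D.ε_le k), Matrix.one_apply_ne hk.symm, zero_mul]
  · simp

theorem L_mul_e (X : GL (Fin m) K) (g : G) (i : Fin m) (y : ι) :
    (D.mat (D.L X * g) : Matrix ι ι K) (D.e i) y =
      ∑ k, (X : Matrix (Fin m) (Fin m) K) i k * (D.mat g : Matrix ι ι K) (D.e k) y := by
  rw [map_mul, Units.val_mul, Matrix.mul_apply]
  refine (Fintype.sum_of_injective D.e D.e_inj _ _ (fun x hx => ?_) (fun k => by rw [D.L_e])).symm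
  rw [D.L_block X _ x (fun h => hx (D.e_surj x (h ▸ D.ε_e i))), zero_mul]

theorem top_mul_U {g u : G} (hu : u ∈ D.U) : D.top (g * u) = D.top g := by
  ext i j; exact D.mul_U_e hu _ _

theorem top_V_mul {g z : G} (hz : z ∈ D.V) : D.top (z * g) = D.top g := by
  ext i j; exact D.V_mul_e hz _ _

theorem top_L_mul (X : GL (Fin m) K) (g : G) :
    D.top (D.L X * g) = (X : Matrix (Fin m) (Fin m) K) * D.top g := by
  ext i j; rw [Matrix.mul_apply]; exact D.L_mul_e X g i _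

theorem ur_mul_V {g z : G} (hz : z ∈ D.V) : D.ur (g * z) = D.ur g := by
  ext i j; exact D.mul_V_f hz _ _

theorem ur_V_mul {g z : G} (hz : z ∈ D.V) : D.ur (z * g) = D.ur g := by
  ext i j; exact D.V_mul_e hz _ _

theorem ur_L_mul (X : GL (Fin m) K) (g : G) :
    D.ur (D.L X * g) = (X : Matrix (Fin m) (Fin m) K) * D.ur g := by
  ext i j; rw [Matrix.mul_apply]; exact D.L_mul_e X g i _

theorem top_one : D.top 1 = 1 := by
  ext i j
  simp [top, Matrix.one_apply, D.e_inj.eq_iff]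

theorem top_U {u : G} (hu : u ∈ D.U) : D.top u = 1 := by
  rw [← one_mul u, D.top_mul_U hu, D.top_one]

theorem top_vLu {v u : G} (hv : v ∈ D.V) (X : GL (Fin m) K) (hu : u ∈ D.U) :
    D.top (v * D.L X * u) = X := by
  rw [mul_assoc, D.top_V_mul hv, D.top_L_mul, D.top_U hu, Matrix.mul_one]

theorem ur_vLu {v u : G} (hv : v ∈ D.V) (X : GL (Fin m) K) :
    D.ur (v * D.L X * u) = (X : Matrix (Fin m) (Fin m) K) * D.ur u := by
  rw [mul_assoc, D.ur_V_mul hv, D.ur_L_mul]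

/-- The hypotheses of the general argument. -/
structure Hyp {n : ℕ} (D : Siegel G ι K (n + 2)) (Ω : Subgroup G) (c l : Kˣ) (S : Subgroup Kˣ) : Prop where
  normal : Ω.Normal
  comm_le : commutator G ≤ Ω
  sq_mem : ∀ x : Kˣ, x ^ 2 ∈ S
  ne : c ≠ l
  cls_mem : D.L (cls c l (n + 1)) ∈ Ω
  fixU : ∀ (N : ℕ), (∀ x : K, x ^ N = 1 → x = 1) → ∀ u ∈ D.U,
    Commute (D.L (diagU (Fin.cons (c ^ N) fun _ : Fin (n + 1) => l ^ N))) u → u = 1
  fixV : ∀ (N : ℕ), (∀ x : K, x ^ N = 1 → x = 1) → ∀ u ∈ D.V,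
    Commute (D.L (diagU (Fin.cons (c ^ N) fun _ : Fin (n + 1) => l ^ N))) u → u = 1
  det_mem : ∀ X, D.L X ∈ Ω → ∀ t : Kˣ, (t : K) = (X : Matrix (Fin (n + 2)) (Fin (n + 2)) K).det → t ∈ S
  decomp : ∀ g ∈ Ω, IsUnit (D.top g).det → ∃ v ∈ D.V, ∃ X, ∃ u ∈ D.U, g = v * D.L X * u
  invert : ∀ g ∈ Ω, ∃ u ∈ D.U, IsUnit (D.top (u * g)).det
  ur_inj : ∀ u ∈ D.U, D.ur u = 0 → u = 1
  moves : ∀ u ∈ D.U, u ≠ 1 → ∀ s ∈ S, s ≠ 1 → ∃ z₁ ∈ D.V, ∃ z₂ ∈ D.V,
    (∀ ν : K, D.top (u * z₂) ≠ ν • D.top (u * z₁)) ∧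
    (D.top (u * z₁)).det = (s : K) ∧ (D.top (u * z₂)).det = (s : K)
  central : ∀ X, D.L X ∈ Ω → (∀ u ∈ D.U, Commute (D.L X) u) → ∀ g ∈ Ω, Commute (D.L X) g
  opp : ∃ w : G, (∀ v ∈ D.V, w * v * w⁻¹ ∈ D.U) ∧
    (∀ X, ∃ Y, w * D.L X * w⁻¹ = D.L Y) ∧
    ∃ r ∈ Ω, w * D.L (cls c l (n + 1)) * w⁻¹ = r * D.L (cls c l (n + 1)) * r⁻¹

variable {D}

section Main

variable {n : ℕ} {D : Siegel G ι K (n + 2)} {Ω : Subgroup G} {c l : Kˣ} {S : Subgroup Kˣ} (H : Hyp D Ω c l S)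
  [Fintype K] (hK : 9 ≤ Fintype.card K)
include H

theorem conj_mem {g : G} (hg : g ∈ Ω) (a : G) : a * g * a⁻¹ ∈ Ω := H.normal.conj_mem g hg a

include hK in
theorem exists_comm_L (X : GL (Fin (n + 2)) K) (hX : (X : Matrix (Fin (n + 2)) (Fin (n + 2)) K).det = 1) :
    D.L X ∈ Ω := by
  apply H.comm_le
  have hle : (commutator (GL (Fin (n + 2)) K)).map D.L ≤ commutator G := by
    rw [commutator_def, Subgroup.map_commutator, commutator_def]
    exact Subgroup.commutator_mono le_top le_top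
  refine hle ⟨X, ?_, rfl⟩
  have hp : commutator (Matrix.SpecialLinearGroup (Fin (n + 2)) K) = ⊤ :=
    Cfsg.Agent.H9.commutator_SL_eq_top_of_square
      (let ⟨a, ha⟩ := exists_sq_ne_one (K := K) (by omega); ⟨a, a.ne_zero, ha⟩)
  have hle2 : (commutator (Matrix.SpecialLinearGroup (Fin (n + 2)) K)).map Matrix.SpecialLinearGroup.toGL ≤
      commutator (GL (Fin (n + 2)) K) := by
    rw [commutator_def, Subgroup.map_commutator, commutator_def]
    exact Subgroup.commutator_mono le_top le_top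
  exact hle2 ⟨⟨X, hX⟩, by rw [hp]; trivial, Units.ext rfl⟩

omit hK [Fintype K] in
theorem exists_det_one_conj {X : GL (Fin (n + 2)) K} (hX : IsConj (cls c l (n + 1)) X) :
    ∃ P : GL (Fin (n + 2)) K, (P : Matrix (Fin (n + 2)) (Fin (n + 2)) K).det = 1 ∧ P * cls c l (n + 1) * P⁻¹ = X := by
  obtain ⟨P, hP⟩ := isConj_iff.1 hX
  set z : GL (Fin (n + 2)) K := cornerHom ((GeneralLinearGroup.det P)⁻¹, 1) with hz
  have hcomm : Commute z (cls c l (n + 1)) := by
    rw [hz, cls]; exact Commute.map (Prod.ext (mul_comm _ _) (by simp)) _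
  refine ⟨P * z, ?_, ?_⟩
  · rw [Units.val_mul, Matrix.det_mul, hz, coe_cornerHom, det_border_zero_col]
    simp [← GeneralLinearGroup.val_det_apply]
  · rw [show P * z * cls c l (n + 1) * (P * z)⁻¹ = P * (z * cls c l (n + 1) * z⁻¹) * P⁻¹ by group,
      hcomm.eq, mul_inv_cancel_right, hP]

omit hK [Fintype K] in
/-- The class has no fixed points in a radical stable under the Levi subgroup. -/
theorem fix_of_conj [Finite K] (W : Subgroup G) (hW : ∀ X, ∀ u ∈ W, D.L X * u * (D.L X)⁻¹ ∈ W)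
    (hfix : ∀ (N : ℕ), (∀ x : K, x ^ N = 1 → x = 1) → ∀ u ∈ W,
      Commute (D.L (diagU (Fin.cons (c ^ N) fun _ : Fin (n + 1) => l ^ N))) u → u = 1)
    {X : GL (Fin (n + 2)) K} (hX : IsConj (cls c l (n + 1)) X) {u : G} (hu : u ∈ W)
    (h : D.L X * u = u * D.L X) : u = 1 := by
  obtain ⟨P, -, rfl⟩ := exists_det_one_conj H hX
  obtain ⟨N, hN, hN1⟩ := exists_pow_cls c l (n + 1)
  have hu' : D.L P⁻¹ * u * (D.L P⁻¹)⁻¹ = 1 := by
    refine hfix N hN1 _ (hW _ u hu) ?_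
    rw [← hN, map_pow]
    refine Commute.pow_left ?_ _
    rw [map_mul, map_mul, map_inv] at h
    show _ = _
    rw [map_inv, inv_inv]
    calc D.L (cls c l (n + 1)) * ((D.L P)⁻¹ * u * D.L P)
        = (D.L P)⁻¹ * ((D.L P * D.L (cls c l (n + 1)) * (D.L P)⁻¹) * u) * D.L P := by group
      _ = (D.L P)⁻¹ * (u * (D.L P * D.L (cls c l (n + 1)) * (D.L P)⁻¹)) * D.L P := by rw [h]
      _ = _ := by group
  rw [conj_eq_one_iff] at hu'
  exact hu'

omit hK [Fintype K] in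
theorem radical_le [Finite K] : D.U ≤ Ω ∧ D.V ≤ Ω := by
  have key : ∀ W : Subgroup G, (∀ X, ∀ u ∈ W, D.L X * u * (D.L X)⁻¹ ∈ W) →
      (∀ (N : ℕ), (∀ x : K, x ^ N = 1 → x = 1) → ∀ u ∈ W,
        Commute (D.L (diagU (Fin.cons (c ^ N) fun _ : Fin (n + 1) => l ^ N))) u → u = 1) → W ≤ Ω := by
    intro W hW hfix u hu
    obtain ⟨y, hy⟩ := isConj_iff.1 (absorb W (fun v hv => hW (cls c l (n + 1)) v hv)
      (fun v hv h => fix_of_conj H W hW hfix (IsConj.refl _) hv h) hu).1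
    have : u = ⁅y, D.L (cls c l (n + 1))⁆ := by
      rw [commutatorElement_def, hy]; group
    rw [this]
    exact H.comm_le (Subgroup.commutator_mem_commutator (Subgroup.mem_top _) (Subgroup.mem_top _))
  exact ⟨key _ (fun X u hu => D.L_conj_U hu X) H.fixU, key _ (fun X u hu => D.L_conj_V hu X) H.fixV⟩

/-- The class. -/
noncomputable def cG : Ω := ⟨D.L (cls c l (n + 1)), H.cls_mem⟩

include hK in
theorem isConj_absorb {X : GL (Fin (n + 2)) K} (hX : IsConj (cls c l (n + 1)) X) :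
    (∀ v (_ : v ∈ D.V) (h : v * D.L X ∈ Ω), IsConj (cG H) ⟨v * D.L X, h⟩) ∧
    (∀ u (_ : u ∈ D.U) (h : D.L X * u ∈ Ω), IsConj (cG H) ⟨D.L X * u, h⟩) := by
  obtain ⟨P, hP, hPX⟩ := exists_det_one_conj H hX
  have hPmem : D.L P ∈ Ω := exists_comm_L H hK P hP
  have hXmem : D.L X ∈ Ω := by
    rw [← hPX, map_mul, map_mul, map_inv]; exact conj_mem H H.cls_mem _
  have h0 : IsConj (cG H) ⟨D.L X, hXmem⟩ :=
    isConj_iff.2 ⟨⟨D.L P, hPmem⟩, Subtype.ext (by simp [cG, ← hPX])⟩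
  refine ⟨fun v hv h => h0.trans ?_, fun u hu h => h0.trans ?_⟩
  · exact (absorb (D.V.subgroupOf Ω) (fun w hw => D.L_conj_V hw X)
      (fun w hw e => Subtype.ext (fix_of_conj H D.V (fun X u hu => D.L_conj_V hu X) H.fixV hX hw
        (congrArg Subtype.val e))) (u := ⟨v, (radical_le H).2 hv⟩) hv).1
  · exact (absorb (D.U.subgroupOf Ω) (fun w hw => D.L_conj_U hw X)
      (fun w hw e => Subtype.ext (fix_of_conj H D.U (fun X u hu => D.L_conj_U hu X) H.fixU hX hw
        (congrArg Subtype.val e))) (u := ⟨u, (radical_le H).1 hu⟩) hu).2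

include hK in
theorem two_of_block {g : Ω} {v u : G} {A : GL (Fin (n + 2)) K} (hv : v ∈ D.V) (hu : u ∈ D.U)
    (hg : g.1 = v * D.L A * u) (hns : ∀ μ : K, (A : Matrix (Fin (n + 2)) (Fin (n + 2)) K) ≠ μ • 1)
    (hdet : (A : Matrix (Fin (n + 2)) (Fin (n + 2)) K).det = ((c : K) * (l : K) ^ (n + 1)) ^ 2) :
    Two (cG H) g := by
  obtain ⟨X, Y, hX, hY, rfl⟩ := two_iff.1 (pair_cls (by omega) H.ne A hns hdet)
  have mem : ∀ {Z}, IsConj (cls c l (n + 1)) Z → D.L Z ∈ Ω := by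
    intro Z hZ
    obtain ⟨P, rfl⟩ := isConj_iff.1 hZ
    rw [map_mul, map_mul, map_inv]; exact conj_mem H H.cls_mem _
  have h1 := (isConj_absorb H hK hX).1 v hv (mul_mem ((radical_le H).2 hv) (mem hX))
  have h2 := (isConj_absorb H hK hY).2 u hu (mul_mem (mem hY) ((radical_le H).1 hu))
  have := two_of_isConj h1 h2
  convert this using 1
  exact Subtype.ext (by rw [hg, map_mul, Subgroup.coe_mul]; group)

omit hK [Fintype K] in
theorem ur_one : D.ur 1 = 0 := by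
  ext i j
  have : D.e i ≠ D.f j := fun e => by have := D.ε_e i; rw [e, D.ε_f] at this; omega
  simp [ur, Matrix.one_apply_ne this]

omit hK [Fintype K] in
theorem det_top_mem {g v u : G} {A : GL (Fin (n + 2)) K} [Finite K] (hg : g ∈ Ω) (hv : v ∈ D.V) (hu : u ∈ D.U)
    (h : g = v * D.L A * u) : D.L A ∈ Ω := by
  have : D.L A = v⁻¹ * g * u⁻¹ := by rw [h]; group
  rw [this]
  exact mul_mem (mul_mem (inv_mem ((radical_le H).2 hv)) hg) (inv_mem ((radical_le H).1 hu))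

/-- Moving the determinant of the block. -/
theorem move {g : Ω} {v u : G} {A : GL (Fin (n + 2)) K} (hv : v ∈ D.V) (hu : u ∈ D.U) (hu1 : u ≠ 1)
    (hg : g.1 = v * D.L A * u) {s : Kˣ} (hs : s ∈ S) (hs1 : s ≠ 1) :
    ∃ a : Ω, ∃ v' ∈ D.V, ∃ A', ∃ u' ∈ D.U, u' ≠ 1 ∧ (a * g * a⁻¹).1 = v' * D.L A' * u' ∧
      (∀ μ : K, (A' : Matrix (Fin (n + 2)) (Fin (n + 2)) K) ≠ μ • 1) ∧
      (A' : Matrix (Fin (n + 2)) (Fin (n + 2)) K).det =
        (A : Matrix (Fin (n + 2)) (Fin (n + 2)) K).det * (s : K) := by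
  classical
  obtain ⟨z₁, hz₁, z₂, hz₂, hne, hd₁, hd₂⟩ := H.moves u hu hu1 s hs hs1
  have hA : IsUnit (A : Matrix (Fin (n + 2)) (Fin (n + 2)) K).det := (Matrix.isUnit_iff_isUnit_det _).1 A.isUnit
  obtain ⟨z, hz, hzns, hzd⟩ : ∃ z ∈ D.V,
      (∀ μ : K, (A : Matrix (Fin (n + 2)) (Fin (n + 2)) K) * D.top (u * z) ≠ μ • 1) ∧
      (D.top (u * z)).det = (s : K) := by
    by_cases h1 : ∀ μ : K, (A : Matrix (Fin (n + 2)) (Fin (n + 2)) K) * D.top (u * z₁) ≠ μ • 1
    · exact ⟨z₁, hz₁, h1, hd₁⟩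
    push Not at h1
    obtain ⟨μ₁, h1⟩ := h1
    refine ⟨z₂, hz₂, fun μ₂ h2 => ?_, hd₂⟩
    have hμ : μ₁ ≠ 0 := by
      rintro rfl
      rw [zero_smul] at h1
      have := congrArg Matrix.det h1
      rw [Matrix.det_mul, hd₁, Matrix.det_zero] at this
      exact mul_ne_zero hA.ne_zero s.ne_zero this
    refine hne (μ₂ / μ₁) ?_
    have e : (A : Matrix (Fin (n + 2)) (Fin (n + 2)) K) * D.top (u * z₂) =
        (A : Matrix (Fin (n + 2)) (Fin (n + 2)) K) * ((μ₂ / μ₁) • D.top (u * z₁)) := by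
      rw [Matrix.mul_smul, h1, h2, smul_smul, div_mul_cancel₀ _ hμ]
    have := congrArg ((A : Matrix (Fin (n + 2)) (Fin (n + 2)) K)⁻¹ * ·) e
    simpa [← Matrix.mul_assoc, Matrix.nonsing_inv_mul _ hA] using this
  let a : Ω := ⟨z⁻¹, inv_mem ((radical_le H).2 hz)⟩
  have htop : D.top (a * g * a⁻¹).1 = (A : Matrix (Fin (n + 2)) (Fin (n + 2)) K) * D.top (u * z) := by
    show D.top (z⁻¹ * g.1 * z⁻¹⁻¹) = _
    rw [inv_inv, hg, show z⁻¹ * (v * D.L A * u) * z = (z⁻¹ * v) * (D.L A * (u * z)) by group,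
      D.top_V_mul (mul_mem (inv_mem hz) hv), D.top_L_mul]
  obtain ⟨v', hv', A', u', hu', e⟩ := H.decomp _ (a * g * a⁻¹).2 (by
    rw [htop, Matrix.det_mul, hzd]; exact hA.mul s.isUnit)
  have hA' : (A' : Matrix (Fin (n + 2)) (Fin (n + 2)) K) = (A : Matrix (Fin (n + 2)) (Fin (n + 2)) K) * D.top (u * z) := by
    rw [← htop, e, D.top_vLu hv' _ hu']
  refine ⟨a, v', hv', A', u', hu', ?_, e, by rw [hA']; exact hzns, by rw [hA', Matrix.det_mul, hzd]⟩
  rintro rfl
  have h1 : D.ur (a * g * a⁻¹).1 = (A : Matrix (Fin (n + 2)) (Fin (n + 2)) K) * D.ur u := by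
    show D.ur (z⁻¹ * g.1 * z⁻¹⁻¹) = _
    rw [inv_inv, D.ur_mul_V hz, D.ur_V_mul (inv_mem hz), hg, D.ur_vLu hv]
  rw [e, D.ur_vLu hv', ur_one H, Matrix.mul_zero] at h1
  have := congrArg ((A : Matrix (Fin (n + 2)) (Fin (n + 2)) K)⁻¹ * ·) h1.symm
  simp only [← Matrix.mul_assoc, Matrix.nonsing_inv_mul _ hA, Matrix.one_mul, Matrix.mul_zero] at this
  exact hu1 (H.ur_inj u hu this)

include hK in
theorem two_of_upper {g : Ω} {v u : G} {A : GL (Fin (n + 2)) K} (hv : v ∈ D.V) (hu : u ∈ D.U) (hu1 : u ≠ 1)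
    (hg : g.1 = v * D.L A * u) : Two (cG H) g := by
  classical
  set t : Kˣ := GeneralLinearGroup.det A
  have ht : t ∈ S := H.det_mem A (det_top_mem H g.2 hv hu hg) t (GeneralLinearGroup.val_det_apply A)
  set τ : Kˣ := (c * l ^ (n + 1)) ^ 2
  obtain ⟨a, ha1, ha2⟩ : ∃ a : Kˣ, a ^ 2 ≠ 1 ∧ a ^ 2 ≠ t⁻¹ * τ := by
    by_contra h
    push Not at h
    let b : K := ((t⁻¹ * τ : Kˣ) : K)
    let sol : Finset K := Finset.univ.filter fun x => x ^ 2 = b
    have hsol : sol.card ≤ 2 := by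
      by_contra hc
      obtain ⟨x, hx, y, hy, z, hz, hxy, hxz, hyz⟩ := Finset.two_lt_card.1 (not_le.1 hc)
      simp only [sol, Finset.mem_filter, Finset.mem_univ, true_and] at hx hy hz
      rcases sq_eq_sq_iff_eq_or_eq_neg.1 (hx.trans hy.symm) with e | e
      · exact hxy e
      rcases sq_eq_sq_iff_eq_or_eq_neg.1 (hx.trans hz.symm) with e' | e'
      · exact hxz e'
      exact hyz (neg_injective (e.symm.trans e'))
    have hsub : (Finset.univ : Finset K) ⊆ {0, 1, -1} ∪ sol := fun x _ => by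
      by_cases hx : x = 0
      · simp [hx]
      by_cases h1 : (Units.mk0 x hx) ^ 2 = 1
      · have : x ^ 2 = 1 := by simpa using congrArg Units.val h1
        rcases sq_eq_one_iff.1 this with e | e <;> simp [e]
      · refine Finset.mem_union_right _ ?_
        simpa [sol, b] using congrArg Units.val (h _ h1)
    have := ((Finset.card_le_card hsub).trans (Finset.card_union_le _ _))
    rw [Finset.card_univ] at this
    have := Finset.card_le_three (a := (0 : K)) (b := 1) (c := -1)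
    omega
  obtain ⟨b₁, v₁, hv₁, A₁, u₁, hu₁, hu₁1, e₁, -, hd₁⟩ := move H hv hu hu1 hg (H.sq_mem a) ha1
  set s : Kˣ := (t * a ^ 2)⁻¹ * τ with hsdef
  have hs : s ∈ S := mul_mem (inv_mem (mul_mem ht (H.sq_mem a))) (H.sq_mem _)
  have hs1 : s ≠ 1 := by
    intro e
    apply ha2
    rw [hsdef, inv_mul_eq_one] at e
    rw [← e]; group
  obtain ⟨b₂, v₂, hv₂, A₂, u₂, hu₂, -, e₂, hns, hd₂⟩ := move H hv₁ hu₁ hu₁1 e₁ hs hs1
  refine Two.of_conj b₁ (Two.of_conj b₂ (two_of_block H hK hv₂ hu₂ e₂ hns ?_))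
  rw [hd₂, hd₁, ← GeneralLinearGroup.val_det_apply A]
  have : t * a ^ 2 * s = τ := by rw [hsdef, mul_inv_cancel_left]
  simpa [t, τ] using congrArg Units.val this

include hK in
/-- The class square of `Ω` outside the centre. -/
theorem two_of_noncentral {g : Ω} (hgc : g ∉ Subgroup.center Ω) : Two (cG H) g := by
  obtain ⟨w, hwU, hwL, r, hr, hwr⟩ := H.opp
  obtain ⟨u₀, hu₀, htop⟩ := H.invert g.1 g.2
  let a₀ : Ω := ⟨u₀, (radical_le H).1 hu₀⟩
  refine Two.of_conj a₀ ?_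
  have hg' : a₀ * g * a₀⁻¹ ∉ Subgroup.center Ω := fun h => hgc (by
    have := Subgroup.Normal.conj_mem (inferInstance : (Subgroup.center Ω).Normal) _ h a₀⁻¹
    simpa [mul_assoc] using this)
  generalize hg₁ : a₀ * g * a₀⁻¹ = g₁ at hg'
  obtain ⟨v, hv, A, u, hu, e⟩ := H.decomp g₁.1 g₁.2 (by
    rw [← hg₁]
    show IsUnit (D.top (u₀ * g.1 * u₀⁻¹)).det
    rwa [D.top_mul_U (inv_mem hu₀)])
  by_cases hu1 : u = 1
  swap
  · exact two_of_upper H hK hv hu hu1 e
  subst hu1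
  rw [mul_one] at e
  by_cases hv1 : v = 1
  · subst hv1
    rw [one_mul] at e
    obtain ⟨y, hy, hyc⟩ : ∃ y ∈ D.U, ¬ Commute (D.L A) y := by
      by_contra h
      push Not at h
      refine hg' (Subgroup.mem_center_iff.2 fun x => Subtype.ext ?_)
      have := H.central A (e ▸ g₁.2) h x.1 x.2
      simp only [Subgroup.coe_mul, e]
      exact this.eq.symm
    let b : Ω := ⟨y, (radical_le H).1 hy⟩
    refine Two.of_conj b (two_of_upper H hK (one_mem _)
      (mul_mem (by simpa using D.L_conj_U hy A⁻¹) (inv_mem hy)) (A := A)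
      (u := (D.L A)⁻¹ * y * D.L A * y⁻¹) ?_ ?_)
    · intro h1
      apply hyc
      have := congrArg (fun z => D.L A * z * y) h1
      simp only [mul_one] at this
      show _ = _
      rw [← this]; group
    · show y * g₁.1 * y⁻¹ = _
      rw [e]; group
  · obtain ⟨B, hB⟩ := hwL A
    let g₂ : Ω := ⟨w * g₁.1 * w⁻¹, conj_mem H g₁.2 w⟩
    have h2 : Two (cG H) g₂ := by
      refine two_of_upper H hK (one_mem _) (A := B) (u := (D.L B)⁻¹ * (w * v * w⁻¹) * D.L B) ?_ ?_ ?_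
      · simpa using D.L_conj_U (hwU v hv) B⁻¹
      · intro h
        have h' : (D.L B)⁻¹ * (w * v * w⁻¹) * (D.L B)⁻¹⁻¹ = 1 := by rwa [inv_inv]
        rw [conj_eq_one_iff, conj_eq_one_iff] at h'
        exact hv1 h' 
      · show w * g₁.1 * w⁻¹ = _
        rw [e, one_mul, ← hB]; group
    obtain ⟨x, y, hxy⟩ := h2
    let k : Ω := ⟨w⁻¹ * r * w, by simpa using conj_mem H hr w⁻¹⟩
    have hk : ∀ z : Ω, IsConj (cG H) ⟨w⁻¹ * (z * cG H * z⁻¹ : Ω).1 * w,
        by simpa using conj_mem H (z * cG H * z⁻¹).2 w⁻¹⟩ := by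
      intro z
      refine isConj_iff.2 ⟨⟨w⁻¹ * z.1 * w, by simpa using conj_mem H z.2 w⁻¹⟩ * k⁻¹, Subtype.ext ?_⟩
      have hC : (w⁻¹ * r * w)⁻¹ * D.L (cls c l (n + 1)) * (w⁻¹ * r * w) = w⁻¹ * D.L (cls c l (n + 1)) * w := by
        have : D.L (cls c l (n + 1)) = r⁻¹ * (w * D.L (cls c l (n + 1)) * w⁻¹) * r := by rw [hwr]; group
        conv_rhs => rw [this]
        group
      simp only [k, cG, Subgroup.coe_mul, InvMemClass.coe_inv]
      calc _ = w⁻¹ * z.1 * w * ((w⁻¹ * r * w)⁻¹ * D.L (cls c l (n + 1)) * (w⁻¹ * r * w)) * (w⁻¹ * z.1 * w)⁻¹ := by group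
        _ = _ := by rw [hC]; group
    have := two_of_isConj (hk x) (hk y)
    convert this using 1
    refine Subtype.ext ?_
    have h := congrArg Subtype.val hxy
    change g₁.1 = w⁻¹ * (x * cG H * x⁻¹ : Ω).1 * w * (w⁻¹ * (y * cG H * y⁻¹ : Ω).1 * w)
    rw [show w⁻¹ * (x * cG H * x⁻¹ : Ω).1 * w * (w⁻¹ * (y * cG H * y⁻¹ : Ω).1 * w) =
      w⁻¹ * ((x * cG H * x⁻¹ : Ω).1 * (y * cG H * y⁻¹ : Ω).1) * w by group, ← Subgroup.coe_mul, ← h]
    show g₁.1 = w⁻¹ * (w * g₁.1 * w⁻¹) * w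
    group

/-- The class square of the simple quotient. -/
theorem square (hK : 9 ≤ Fintype.card K) (hreal : IsConj (cG H) (cG H)⁻¹) {Gq : Type*} [Group Gq]
    (eq : Gq ≃* Ω ⧸ Subgroup.center Ω) : ∃ a : Gq, ∀ g : Gq, ∃ x y : Gq, g = (x * a * x⁻¹) * (y * a * y⁻¹) :=
  quotient_square eq hreal fun _ hg => two_of_noncentral H hK hg

end Main

end Siegel

end H21.ClassSquare
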